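import Groth.Agent.Ref1X.BirConn

/-!
# Rings of sections of integral normal schemes, and normality of the target of a fibre space
-/

universe u

open CategoryTheory AlgebraicGeometry TopologicalSpace Opposite

set_option linter.style.haveILetI false

namespace Groth.Agent.FibreSpaceX

open Groth.Agent

variable {X Y : Scheme.{u}}

theorem isIntegrallyClosed_opens [IsIntegral X] (hX : Pi1.IsNormalScheme X) (V : X.Opens) [hV : Nonempty V] :
    IsIntegrallyClosed Γ(X, V) := by
  rw [isIntegrallyClosed_iff (FractionRing Γ(X, V))]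
  intro z hz
  have hη : genericPoint X ∈ V := ((genericPoint_spec X).mem_open_set_iff V.isOpen).2 (by simpa using hV)
  let g : Γ(X, V) →+* X.functionField := (X.presheaf.germ V (genericPoint X) hη).hom
  have hg : Function.Injective g := germ_injective_of_isIntegral X (genericPoint X) hη
  let φ : FractionRing Γ(X, V) →+* X.functionField := IsFractionRing.lift hg
  have hφ : ∀ a, φ (algebraMap Γ(X, V) (FractionRing Γ(X, V)) a) = g a :=
    fun a => IsFractionRing.lift_algebraMap hg a
  obtain ⟨P, hP, hP0⟩ := hz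
  have hloc : ∀ x : V, ∃ (W : X.Opens) (hWV : W ≤ V) (hxW : x.1 ∈ W) (hηW : genericPoint X ∈ W) (c : Γ(X, W)),
      (X.presheaf.germ W (genericPoint X) hηW) c = φ z := fun x => by
    obtain ⟨_, ⟨W, hW, rfl⟩, hxW, hWV⟩ := X.isBasis_affineOpens.exists_subset_of_mem_open x.2 V.isOpen
    haveI : Nonempty W := ⟨⟨_, hxW⟩⟩
    have hηW : genericPoint X ∈ W :=
      ((genericPoint_spec X).mem_open_set_iff W.isOpen).2 ⟨x.1, trivial, hxW⟩
    haveI := Ref1X.isIntegrallyClosed_sections (Y := X) hX hW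
    haveI : IsFractionRing Γ(X, W) X.functionField := functionField_isFractionRing_of_isAffineOpen X W hW
    have hint : IsIntegral Γ(X, W) (φ z) := by
      refine ⟨P.map (X.presheaf.map (homOfLE hWV).op).hom, hP.map _, ?_⟩
      rw [Polynomial.eval₂_map]
      have hcomp : (algebraMap Γ(X, W) X.functionField).comp (X.presheaf.map (homOfLE hWV).op).hom =
          φ.comp (algebraMap Γ(X, V) (FractionRing Γ(X, V))) := RingHom.ext fun a => by
        rw [RingHom.comp_apply, RingHom.comp_apply, hφ]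
        exact TopCat.Presheaf.germ_res_apply X.presheaf (homOfLE hWV) (genericPoint X) hηW a
      rw [hcomp, ← Polynomial.hom_eval₂, hP0, map_zero]
    obtain ⟨c, hc⟩ := (IsIntegrallyClosed.isIntegral_iff (R := Γ(X, W)) (K := X.functionField)).1 hint
    exact ⟨W, hWV, hxW, hηW, c, hc⟩
  choose W hWV hxW hηW c hc using hloc
  obtain ⟨a, ha, -⟩ := X.sheaf.existsUnique_gluing' W V (fun x => homOfLE (hWV x))
    (fun x hx => Opens.mem_iSup.2 ⟨⟨x, hx⟩, hxW ⟨x, hx⟩⟩) c fun x y => by
      refine germ_injective_of_isIntegral X (genericPoint X) (U := W x ⊓ W y) ⟨hηW x, hηW y⟩ ?_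
      exact (TopCat.Presheaf.germ_res_apply X.presheaf (Opens.infLELeft (W x) (W y)) _ _ _).trans
        ((hc x).trans ((hc y).symm.trans
          (TopCat.Presheaf.germ_res_apply X.presheaf (Opens.infLERight (W x) (W y)) _ _ _).symm))
  refine ⟨a, φ.injective ?_⟩
  refine (hφ a).trans ?_
  obtain ⟨x⟩ := hV
  have h2 := TopCat.Presheaf.germ_res_apply X.presheaf (homOfLE (hWV x)) (genericPoint X) (hηW x) a
  exact h2.symm.trans ((congrArg _ (ha x)).trans (hc x))

theorem isNormalScheme_of_fibreSpace [IsIntegral X] [IsIntegral Y] (hX : Pi1.IsNormalScheme X) (f : X ⟶ Y)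
    [Surjective f] (h : ∀ U : Y.Opens, Function.Bijective (f.app U)) : Pi1.IsNormalScheme Y := by
  intro y
  refine ⟨inferInstance, ?_⟩
  obtain ⟨_, ⟨U, hU, rfl⟩, hyU, -⟩ := Y.isBasis_affineOpens.exists_subset_of_mem_open (Set.mem_univ y) isOpen_univ
  obtain ⟨x, rfl⟩ := f.surjective y
  haveI : Nonempty (f ⁻¹ᵁ U : X.Opens) := ⟨⟨x, hyU⟩⟩
  haveI := isIntegrallyClosed_opens hX (f ⁻¹ᵁ U)
  haveI : IsIntegrallyClosed Γ(Y, U) := IsIntegrallyClosed.of_equiv (RingEquiv.ofBijective _ (h U)).symm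
  haveI : Nonempty U := ⟨⟨_, hyU⟩⟩
  letI := TopCat.Presheaf.algebra_section_stalk Y.presheaf ⟨f x, hyU⟩
  haveI := hU.isLocalization_stalk ⟨f x, hyU⟩
  exact isIntegrallyClosed_of_isLocalization (R := Γ(Y, U)) _ (hU.primeIdealOf ⟨f x, hyU⟩).asIdeal.primeCompl
    (Ideal.primeCompl_le_nonZeroDivisors _)

end Groth.Agent.FibreSpaceX
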