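import Groth.Agent.InvX.Pullback
import Groth.Agent.InvX.Tensor
import Groth.Agent.QCoh.ClosedPush

/-!
# The projection formula for a fibre space and an invertible module
-/

universe u

open CategoryTheory AlgebraicGeometry TopologicalSpace Opposite

set_option backward.isDefEq.respectTransparency false
set_option backward.isDefEq.respectTransparency.types false

namespace Groth.Agent.FibreSpaceX

open Groth.Agent

variable {X Y : Scheme.{u}} (f : X ⟶ Y)

theorem isIso_unit_app (h : ∀ U : Y.Opens, Function.Bijective (f.app U)) {L : Y.Modules}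
    (hL : PicF.IsInvertible L) : IsIso ((Scheme.Modules.pullbackPushforwardAdjunction f).unit.app L) := by
  refine QCoh.isIso_of_isBasis _ (B := {W : Y.Opens | ∃ e : Γ(L, W), InvX.IsFrame e})
    (Opens.isBasis_iff_nbhd.2 fun {U y} hy => ?_) ?_
  · obtain ⟨W, hyW, e, he⟩ := InvX.exists_frame hL y
    exact ⟨W ⊓ U, ⟨_, he.res inf_le_left⟩, ⟨hyW, hy⟩, inf_le_right⟩
  · rintro W ⟨e, he⟩
    let η := (Scheme.Modules.pullbackPushforwardAdjunction f).unit.app L
    have h1 := he W le_rfl
    have h2 := InvX.isFrame_pullElt f he (f ⁻¹ᵁ W) le_rfl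
    have key : ∀ r : Γ(Y, W), η.app W (r • AModX.res L le_rfl e) =
        (f.app W r : Γ(X, f ⁻¹ᵁ W)) • AModX.res ((Scheme.Modules.pullback f).obj L) (le_refl (f ⁻¹ᵁ W))
          (InvX.pullElt f e) := fun r => by
      rw [Scheme.Modules.Hom.app_smul, AModX.res_self, AModX.res_self]
      rfl
    have hb : Function.Bijective (fun r : Γ(Y, W) => η.app W (r • AModX.res L le_rfl e)) := by
      rw [funext key]
      exact h2.comp (h W)
    exact (Function.Bijective.of_comp_iff _ h1).1 hb

end Groth.Agent.FibreSpaceX
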